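import Groth.Prelude.Def_Neron
import Groth.Prelude.Def_SGA7IX
import Groth.Agent.AbSchLib.RigidityOver
import Groth.Agent.NeronLib.RigidProduct
import Groth.Agent.AbVarLib.PowEtale
import Groth.Agent.SGA3UnitSec.Lqf
import Groth.Agent.IsoTriv.ExtensionComm
import Groth.Agent.AlgGrpLib.SubgroupCalc
import Groth.Agent.S7790
import Groth.Agent.S7800
import Mathlib

/-!
# Isogenies of Néron models
-/

set_option autoImplicit false

universe u

open CategoryTheory CategoryTheory.Limits AlgebraicGeometry MonObj MonoidalCategory CartesianMonoidalCategory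

namespace Groth.Agent.NeronIsog27

section
variable {R : Type u} [CommRing R] [IsDomain R]

/-- A group scheme with the Néron property and proper geometrically integral generic fibre is commutative. -/
theorem isCommMonObj_of_neron (A : Over (Spec (CommRingCat.of R))) [GrpObj A]
    (hA : Neron.IsNeronModelOf R A ((Neron.genericFibre R).obj A) (Iso.refl _))
    [IsProper ((Neron.genericFibre R).obj A).hom] [GeometricallyIntegral ((Neron.genericFibre R).obj A).hom] :
    IsCommMonObj A := by
  haveI := hA.1
  letI : GrpObj ((Neron.genericFibre R).obj A) := Functor.grpObjObj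
  haveI : Smooth ((Neron.genericFibre R).obj A).hom :=
    inferInstanceAs (Smooth (pullback.snd A.hom (Neron.genPt R)))
  haveI : GeometricallyConnected ((Neron.genericFibre R).obj A).hom :=
    NeronLib.geometricallyConnected_of_irreducible _
  haveI := AbSchLib.isCommMonObj_of_proper ((Neron.genericFibre R).obj A)
  haveI : Smooth (A ⊗ A).hom := by rw [Over.tensorObj_hom]; infer_instance
  have key : fst A A * snd A A = snd A A * fst A A := by
    refine (hA.2.2.2.2 (A ⊗ A) inferInstance).1 ?_
    show (Neron.genericFibre R).map (fst A A * snd A A) ≫ _ = (Neron.genericFibre R).map (snd A A * fst A A) ≫ _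
    rw [Functor.map_mul, Functor.map_mul, mul_comm]
  constructor
  have h1 : (β_ A A).hom ≫ μ[A] = snd A A * fst A A := by
    rw [CategoryTheory.Hom.mul_def]
    congr 1
  rw [h1, ← key, CategoryTheory.Hom.mul_def, lift_fst_snd, Category.id_comp]

end

/-- A kernel carries a group structure making the inclusion a homomorphism. -/
theorem exists_grpObj_kernel {S : Scheme.{u}} {N G Q : Over S} [GrpObj G] [GrpObj Q] (f : G ⟶ Q) [IsMonHom f]
    (i : N ⟶ G) (hN : AlgGrp.IsKernel i f) : ∃ (_ : GrpObj N), IsMonHom i := by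
  let e : UnipStruct.kerObj f ≅ N := IsPullback.isoIsPullback _ _ (UnipStruct.isKernel_kerι f) hN
  letI : GrpObj N := GrpObj.ofIso e
  haveI : IsMonHom e.hom := isMonHom_ofIso e
  haveI : IsMonHom e.inv := inferInstance
  refine ⟨inferInstance, ?_⟩
  have : i = e.inv ≫ UnipStruct.kerι f := by
    rw [Iso.eq_inv_comp]; exact IsPullback.isoIsPullback_hom_fst _ _ _ _
  rw [this]; infer_instance

/-- An isogeny of abelian varieties is finite, flat and surjective. -/
theorem finite_flat_surjective {k : Type u} [Field k] {X Y : Over (Spec (CommRingCat.of k))} [GrpObj X] [GrpObj Y]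
    [IsProper X.hom] [GeometricallyIntegral X.hom] [IsProper Y.hom] [GeometricallyIntegral Y.hom]
    [Smooth X.hom] (f : X ⟶ Y) [IsMonHom f] (hf : SGA7.IsIsogenyOver f)
    {N : Over (Spec (CommRingCat.of k))} (i : N ⟶ X) (hN : AlgGrp.IsKernel i f) :
    IsFinite f.left ∧ Flat f.left ∧ Surjective f.left := by
  haveI := hf.1
  haveI := hf.2 N i hN
  haveI : IsProper (f.left ≫ Y.hom) := by rw [Over.w f]; infer_instance
  haveI : IsProper f.left := IsProper.of_comp f.left Y.hom
  have hlqf : LocallyQuasiFinite f.left := by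
    obtain ⟨GN, hmon⟩ := exists_grpObj_kernel f i hN
    letI := GN
    haveI := hmon
    exact SGA3UnitSec.locallyQuasiFinite_of_kernel f hN inferInstance
  exact ⟨(IsFinite.iff_isProper_and_locallyQuasiFinite _).2 ⟨inferInstance, hlqf⟩,
    (Groth.Agent.S7800.result X Y f).1, inferInstance⟩

variable (R : Type u) [CommRing R] [IsDedekindDomain R] (A B : Over (Spec (CommRingCat.of R))) [GrpObj A] [GrpObj B]
  (hA : Neron.IsNeronModelOf R A ((Neron.genericFibre R).obj A) (Iso.refl _))
  (hB : Neron.IsNeronModelOf R B ((Neron.genericFibre R).obj B) (Iso.refl _))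
  [IsProper ((Neron.genericFibre R).obj A).hom] [GeometricallyIntegral ((Neron.genericFibre R).obj A).hom]
  [IsProper ((Neron.genericFibre R).obj B).hom] [GeometricallyIntegral ((Neron.genericFibre R).obj B).hom]

include hA hB in
/-- The kernel of an isogeny of degree invertible on the base is étale, and is its own Néron model. -/
theorem kernel_neron_etale (φ : A ⟶ B) [IsMonHom φ] (hφ : SGA7.IsIsogenyOver ((Neron.genericFibre R).map φ))
    (N : Over (Spec (CommRingCat.of R))) (i : N ⟶ A) (hN : AlgGrp.IsKernel i φ)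
    (hdeg : ∀ x : ↥(Spec (CommRingCat.of (FractionRing R))),
      IsUnit ((((Neron.genericFibre R).obj N).hom.finrank x : ℕ) : R)) :
    Neron.IsNeronModelOf R N ((Neron.genericFibre R).obj N) (Iso.refl _) ∧ Etale N.hom := by
  let F := Neron.genericFibre R
  haveI := hA.1; haveI := hA.2.1; haveI := hA.2.2.1; haveI := hA.2.2.2.1
  haveI := hB.1; haveI := hB.2.1; haveI := hB.2.2.1; haveI := hB.2.2.2.1
  haveI := isCommMonObj_of_neron A hA
  haveI := isCommMonObj_of_neron B hB
  have hbA : ∀ Y : Over (Spec (CommRingCat.of R)), Smooth Y.hom → Function.Bijective (fun g : Y ⟶ A => F.map g) :=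
    fun Y hY => by simpa [F] using hA.2.2.2.2 Y hY
  have hbB : ∀ Y : Over (Spec (CommRingCat.of R)), Smooth Y.hom → Function.Bijective (fun g : Y ⟶ B => F.map g) :=
    fun Y hY => by simpa [F] using hB.2.2.2.2 Y hY
  letI : GrpObj (F.obj A) := Functor.grpObjObj
  letI : GrpObj (F.obj B) := Functor.grpObjObj
  haveI : IsMonHom (F.map φ) := inferInstance
  haveI : Smooth (F.obj A).hom := inferInstanceAs (Smooth (pullback.snd A.hom (Neron.genPt R)))
  haveI : Smooth (F.obj B).hom := inferInstanceAs (Smooth (pullback.snd B.hom (Neron.genPt R)))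
  haveI : GeometricallyConnected (F.obj A).hom := NeronLib.geometricallyConnected_of_irreducible _
  haveI : GeometricallyConnected (F.obj B).hom := NeronLib.geometricallyConnected_of_irreducible _
  obtain ⟨GN, hmon⟩ := exists_grpObj_kernel φ i hN
  letI := GN
  haveI := hmon
  have hNK : AlgGrp.IsKernel (F.map i) (F.map φ) := IsoTriv.ExtensionComm.isKernel_bc i φ hN (Neron.genPt R)
  obtain ⟨hfin, hflat, hsurj⟩ := finite_flat_surjective (F.map φ) hφ (F.map i) hNK
  let x₀ : ↥(Spec (CommRingCat.of (FractionRing R))) := default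
  let n := (F.obj N).hom.finrank x₀
  have hnR : IsUnit ((n : ℕ) : R) := hdeg x₀
  have hn : 1 ≤ n := Nat.one_le_iff_ne_zero.2 fun h0 => not_isUnit_zero (M₀ := R) (by rw [h0, Nat.cast_zero] at hnR; exact hnR)
  haveI : Subsingleton ↥(𝟙_ (Over (Spec (CommRingCat.of (FractionRing R))))).left :=
    inferInstanceAs (Subsingleton ↥(Spec (CommRingCat.of (FractionRing R))))
  have hdeg' : ∀ s, Scheme.Hom.finrank (F.map φ).left (η[F.obj B].left s) = n := fun s => by
    have hsq := hNK.map (Over.forget (Spec (CommRingCat.of (FractionRing R))))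
    haveI : Flat ((Over.forget (Spec (CommRingCat.of (FractionRing R)))).map (F.map φ)) := hflat
    haveI : IsFinite ((Over.forget (Spec (CommRingCat.of (FractionRing R)))).map (F.map φ)) := hfin
    have h3 := Scheme.Hom.finrank_of_isPullback _ _ _ _ hsq s
    have hto : (Over.forget (Spec (CommRingCat.of (FractionRing R)))).map (toUnit (F.obj N)) = (F.obj N).hom := rfl
    rw [hto] at h3
    show _ = (F.obj N).hom.finrank x₀
    rw [← Subsingleton.elim s x₀]
    exact h3.symm
  obtain ⟨⟨g, ⟨hg, hfg⟩, -⟩, hall⟩ := Groth.Agent.S7790.result (F.obj A) (F.obj B) (F.map φ) n hn hdeg'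
  obtain ⟨hgf, -, -, -⟩ := hall g hg hfg
  obtain ⟨ψ, hψ⟩ := (hbA B inferInstance).2 g
  have hψ' : F.map ψ = g := hψ
  have hpowA : F.map (𝟙 A ^ n) = 𝟙 (F.obj A) ^ n := by rw [← F.map_id A]; exact map_pow F.homMonoidHom (𝟙 A) n
  have hpowB : F.map (𝟙 B ^ n) = 𝟙 (F.obj B) ^ n := by rw [← F.map_id B]; exact map_pow F.homMonoidHom (𝟙 B) n
  have h1 : φ ≫ ψ = 𝟙 A ^ n := (hbA A inferInstance).1 (by
    show F.map (φ ≫ ψ) = F.map (𝟙 A ^ n)
    rw [F.map_comp, hψ', hfg, hpowA])
  have h2 : ψ ≫ φ = 𝟙 B ^ n := (hbB B inferInstance).1 (by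
    show F.map (ψ ≫ φ) = F.map (𝟙 B ^ n)
    rw [F.map_comp, hψ', hgf, hpowB])
  have hu : IsUnit ((n : ℤ) : Γ(Spec (CommRingCat.of R), ⊤)) := by
    have := hnR.map (Scheme.ΓSpecIso (CommRingCat.of R)).inv.hom
    simpa using this
  have hetA : Etale (φ.left ≫ ψ.left) := by
    rw [← Over.comp_left, h1]
    have := AbVarLib.etale_zpow (X := A) (n : ℤ) hu
    rwa [zpow_natCast] at this
  have hetB : Etale (ψ.left ≫ φ.left) := by
    rw [← Over.comp_left, h2]
    have := AbVarLib.etale_zpow (X := B) (n : ℤ) hu
    rwa [zpow_natCast] at this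
  haveI : LocallyOfFiniteType (ψ.left ≫ A.hom) := by rw [Over.w ψ]; infer_instance
  haveI : LocallyOfFiniteType ψ.left := locallyOfFiniteType_of_comp ψ.left A.hom
  haveI : FormallyUnramified ψ.left := FormallyUnramified.of_comp ψ.left φ.left
  haveI : Etale φ.left := Etale.of_comp φ.left ψ.left
  have hsq := hN.map (Over.forget (Spec (CommRingCat.of R)))
  have hNet : Etale N.hom := by
    have := MorphismProperty.of_isPullback (P := @Etale) hsq (inferInstance : Etale φ.left)
    exact this
  haveI := hNet
  haveI : IsSeparated B.hom := hB.2.1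
  haveI : IsClosedImmersion η[B].left := by
    have h : IsClosedImmersion (η[B].left ≫ B.hom) := by
      rw [Over.w η[B]]; exact inferInstanceAs (IsClosedImmersion (𝟙 _))
    exact IsClosedImmersion.of_comp η[B].left B.hom
  haveI : IsClosedImmersion i.left := MorphismProperty.of_isPullback (P := @IsClosedImmersion) hsq.flip (show IsClosedImmersion η[B].left from inferInstance)
  haveI : IsSeparated N.hom := by rw [← Over.w i]; infer_instance
  haveI : QuasiCompact N.hom := by rw [← Over.w i]; infer_instance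
  haveI : LocallyOfFiniteType N.hom := inferInstance
  refine ⟨⟨inferInstance, inferInstance, inferInstance, inferInstance, fun Y hY => ?_⟩, hNet⟩
  have hb : Function.Bijective (fun g : Y ⟶ N => F.map g) := by
    refine ⟨fun a b hab => ?_, fun h => ?_⟩
    · refine hN.hom_ext ((hbA Y hY).1 ?_) (toUnit_unique _ _)
      show F.map (a ≫ i) = F.map (b ≫ i)
      rw [F.map_comp, F.map_comp]
      exact congrArg (· ≫ F.map i) hab
    · obtain ⟨a, ha⟩ := (hbA Y hY).2 (h ≫ F.map i)
      have ha' : F.map a = h ≫ F.map i := ha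
      have hz : a ≫ φ = 1 := (hbB Y hY).1 (by
        show F.map (a ≫ φ) = F.map 1
        rw [F.map_comp, ha', Category.assoc, AlgGrpLib.kernel_comp hNK]
        exact (MonObj.comp_one h).trans (map_one F.homMonoidHom).symm)
      obtain ⟨b, hb⟩ := IsoTriv.ExtensionComm.exists_lift_kernel i φ hN a hz
      refine ⟨b, hNK.hom_ext ?_ (toUnit_unique _ _)⟩
      show F.map b ≫ F.map i = h ≫ F.map i
      rw [← F.map_comp, hb, ha']
  simpa [F] using hb

end Groth.Agent.NeronIsog27
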