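import Groth.Agent.NeronIsog27.FlatQF
import Groth.Agent.SGA3Homog26.FlatImage
import Groth.Agent.NeronLib.WeilExtension

/-!
# Flatness of an isogeny of Néron models through the neutral components
-/

set_option autoImplicit false
set_option backward.isDefEq.respectTransparency false

universe u

open CategoryTheory CategoryTheory.Limits AlgebraicGeometry MonObj MonoidalCategory CartesianMonoidalCategory

namespace Groth.Agent.NeronIsog27

/-- Flatness of a fibre map can be tested on any field valued point. -/
theorem flat_fibreMap_of_point {S : Scheme.{u}} {X Y : Over S} (f : X ⟶ Y) (K : Type u) [Field K]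
    (g : Spec (CommRingCat.of K) ⟶ S) (s : S) (hs : g (IsLocalRing.closedPoint K) = s)
    (h : Flat ((Over.pullback g).map f).left) : Flat (AbVarLib.fibreMap f s).left := by
  subst hs
  let e : Spec (CommRingCat.of K) ⟶ Spec (S.residueField (g (IsLocalRing.closedPoint K))) :=
    Spec.map (S.descResidueField (Scheme.stalkClosedPointTo g))
  have he : e ≫ S.fromSpecResidueField _ = g := Scheme.descResidueField_stalkClosedPointTo_fromSpecResidueField K S g
  let g₀ := S.fromSpecResidueField (g (IsLocalRing.closedPoint K))
  have P1 := AbVarLib.isPullback_pullback_map g f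
  have P0 := AbVarLib.isPullback_pullback_map g₀ f
  let a : ((Over.pullback g).obj X).left ⟶ ((Over.pullback g₀).obj X).left :=
    pullback.lift (pullback.fst X.hom g) (pullback.snd X.hom g ≫ e) (by rw [Category.assoc, he]; exact pullback.condition)
  let b : ((Over.pullback g).obj Y).left ⟶ ((Over.pullback g₀).obj Y).left :=
    pullback.lift (pullback.fst Y.hom g) (pullback.snd Y.hom g ≫ e) (by rw [Category.assoc, he]; exact pullback.condition)
  have ha : a ≫ pullback.fst X.hom g₀ = pullback.fst X.hom g := pullback.lift_fst _ _ _
  have hb : b ≫ pullback.fst Y.hom g₀ = pullback.fst Y.hom g := pullback.lift_fst _ _ _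
  have e1 : ((Over.pullback g).map f).left ≫ pullback.snd Y.hom g = pullback.snd X.hom g := pullback.lift_snd _ _ _
  have e2 : ((Over.pullback g₀).map f).left ≫ pullback.snd Y.hom g₀ = pullback.snd X.hom g₀ := pullback.lift_snd _ _ _
  have sq : IsPullback a ((Over.pullback g).map f).left ((Over.pullback g₀).map f).left b := by
    refine IsPullback.of_right (h₁₂ := pullback.fst X.hom g₀) (h₂₂ := pullback.fst Y.hom g₀) (v₁₃ := f.left) ?_ ?_ P0
    · rw [ha, hb]; exact P1
    · refine pullback.hom_ext ?_ ?_
      · rw [Category.assoc, Category.assoc, ← P0.w, reassoc_of% ha, hb, P1.w]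
      · rw [Category.assoc, Category.assoc, e2, pullback.lift_snd, pullback.lift_snd, reassoc_of% e1]
  have hbq : Et18.FPQC.{u} b := by
    have sqb : IsPullback b (pullback.snd Y.hom g) (pullback.snd Y.hom g₀) e := by
      refine IsPullback.of_right (h₁₂ := pullback.fst Y.hom g₀) (h₂₂ := g₀) (v₁₃ := Y.hom) ?_ (pullback.lift_snd _ _ _) (IsPullback.of_hasPullback _ _)
      rw [hb, he]
      exact IsPullback.of_hasPullback _ _
    haveI hsurj : Surjective e := ⟨fun z => ⟨IsLocalRing.closedPoint K, Subsingleton.elim _ _⟩⟩
    haveI : Flat e := inferInstance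
    exact ⟨⟨MorphismProperty.of_isPullback (P := @Surjective) sqb.flip hsurj,
      MorphismProperty.of_isPullback (P := @Flat) sqb.flip ‹Flat e›⟩,
      MorphismProperty.of_isPullback (P := @QuasiCompact) sqb.flip inferInstance⟩
  haveI := AlgSpLib.descends_flat.{u}
  exact MorphismProperty.of_isPullback_of_descendsAlong (Q := Et18.FPQC.{u}) sq.flip hbq h

variable (R : Type u) [CommRing R] [IsDomain R] [IsDiscreteValuationRing R]
  (A B : Over (Spec (CommRingCat.of R))) [GrpObj A] [GrpObj B] [Smooth A.hom] [Smooth B.hom]
  [IsProper ((Neron.genericFibre R).obj A).hom] [GeometricallyIntegral ((Neron.genericFibre R).obj A).hom]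
  [IsProper ((Neron.genericFibre R).obj B).hom] [GeometricallyIntegral ((Neron.genericFibre R).obj B).hom]

/-- Flatness is surjectivity on the neutral components of the special fibres. -/
theorem flat_iff_image_neutral (φ : A ⟶ B) [IsMonHom φ] (hφ : SGA7.IsIsogenyOver ((Neron.genericFibre R).map φ)) :
    Flat φ.left ↔
      ((Over.pullback (Spec.map (CommRingCat.ofHom (IsLocalRing.residue R)))).map φ).left.base ''
          connectedComponent ((η[Red.bc (Spec.map (CommRingCat.ofHom (IsLocalRing.residue R))) A]).left.base (IsLocalRing.closedPoint (IsLocalRing.ResidueField R))) =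
        connectedComponent ((η[Red.bc (Spec.map (CommRingCat.ofHom (IsLocalRing.residue R))) B]).left.base (IsLocalRing.closedPoint (IsLocalRing.ResidueField R))) := by
  let g := Spec.map (CommRingCat.ofHom (IsLocalRing.residue R))
  let F := Over.pullback g
  letI : GrpObj (F.obj A) := Functor.grpObjObj
  letI : GrpObj (F.obj B) := Functor.grpObjObj
  haveI : Smooth (F.obj A).hom := inferInstanceAs (Smooth (pullback.snd A.hom g))
  haveI : Smooth (F.obj B).hom := inferInstanceAs (Smooth (pullback.snd B.hom g))
  haveI : IsMonHom (F.map φ) := inferInstance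
  haveI : LocallyOfFiniteType (φ.left ≫ B.hom) := by rw [Over.w φ]; infer_instance
  rw [← SGA3Homog26.neutralSet_field (G := Red.bc g A), ← SGA3Homog26.neutralSet_field (G := Red.bc g B)]
  have P := AbVarLib.isPullback_pullback_map g φ
  constructor
  · intro h
    haveI : Flat (F.map φ).left := MorphismProperty.of_isPullback (P := @Flat) P h
    exact SGA3Homog26.image_neutralSet_field (F.map φ)
  · intro h
    haveI : IsReduced (F.obj B).left := NeronLib.isReduced_of_smooth_regular (NeronLib.smoothRegular_spec (IsLocalRing.ResidueField R)) (F.obj B).hom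
    have hs : Flat (F.map φ).left := SGA3Homog26.flat_of_image_neutralSet (F.map φ) h
    refine AbVarLib.flat_of_fibreMap φ fun s => ?_
    by_cases hc : s = IsLocalRing.closedPoint R
    · refine flat_fibreMap_of_point φ _ g s ?_ hs
      rw [hc]
      exact IsLocalRing.comap_closedPoint (IsLocalRing.residue R)
    · let FK := Neron.genericFibre R
      letI : GrpObj (FK.obj A) := Functor.grpObjObj
      letI : GrpObj (FK.obj B) := Functor.grpObjObj
      haveI : IsMonHom (FK.map φ) := inferInstance
      haveI : Smooth (FK.obj A).hom := inferInstanceAs (Smooth (pullback.snd A.hom (Neron.genPt R)))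
      have hN := UnipStruct.isKernel_kerι φ
      have hNK := IsoTriv.ExtensionComm.isKernel_bc (UnipStruct.kerι φ) φ hN (Neron.genPt R)
      obtain ⟨-, hflat, -⟩ := finite_flat_surjective (FK.map φ) hφ _ hNK
      refine flat_fibreMap_of_point φ (FractionRing R) (Neron.genPt R) s ?_ hflat
      have hb : s.asIdeal = ⊥ := by
        by_contra h0
        exact hc (PrimeSpectrum.ext (IsLocalRing.eq_maximalIdeal (s.isPrime.isMaximal h0)))
      refine PrimeSpectrum.ext (Eq.trans ?_ hb.symm)
      show Ideal.comap (algebraMap R (FractionRing R)) (IsLocalRing.closedPoint (FractionRing R)).asIdeal = ⊥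
      rw [(Ideal.eq_bot_or_top _).resolve_right (IsLocalRing.closedPoint (FractionRing R)).isPrime.ne_top]
      exact (RingHom.injective_iff_ker_eq_bot _).1 (IsFractionRing.injective R (FractionRing R))

end Groth.Agent.NeronIsog27
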