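import Groth.Agent.NeronIsog27.EtaleKernel
import Groth.Agent.AbVarLib.HomDim
import Groth.Agent.AbVarLib.HomFibre
import Groth.Agent.FlatMor12.MiracleScheme
import Groth.Agent.AlgGrpLib.Equidim
import Groth.Agent.Unram17Lib.RelDim
import Groth.Agent.VarietyLib.SmoothStalk
import Groth.Agent.CAlgH3.RegularCore
import Groth.Agent.S18485

/-!
# A homomorphism of Néron models extending an isogeny is flat iff quasi-finite
-/

set_option autoImplicit false
set_option backward.isDefEq.respectTransparency false

universe u

open CategoryTheory CategoryTheory.Limits AlgebraicGeometry MonObj MonoidalCategory CartesianMonoidalCategory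

namespace Groth.Agent.NeronIsog27

theorem fibreDimAt_eq_topologicalKrullDim {S : Scheme.{u}} (A : Over S) [GrpObj A] [LocallyOfFiniteType A.hom] (x : A.left) :
    FlatMor.fibreDimAt A.hom x = topologicalKrullDim ((Over.pullback (S.fromSpecResidueField (A.hom x))).obj A).left := by
  letI : GrpObj ((Over.pullback (S.fromSpecResidueField (A.hom x))).obj A) := Functor.grpObjObj
  haveI : LocallyOfFiniteType ((Over.pullback (S.fromSpecResidueField (A.hom x))).obj A).hom :=
    inferInstanceAs (LocallyOfFiniteType (pullback.snd A.hom (S.fromSpecResidueField (A.hom x))))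
  exact AlgGrpLib.localDim_eq_topologicalKrullDim ((Over.pullback (S.fromSpecResidueField (A.hom x))).obj A) (A.hom.asFiber x)

/-- The fibres of a smooth group scheme over a domain all have the dimension of the generic fibre. -/
theorem dim_fibre_eq_generic {R : Type u} [CommRing R] [IsDomain R] (A : Over (Spec (CommRingCat.of R))) [GrpObj A]
    [Smooth A.hom] (s : Spec (CommRingCat.of R)) :
    topologicalKrullDim ((Over.pullback ((Spec (CommRingCat.of R)).fromSpecResidueField s)).obj A).left =
      topologicalKrullDim ((Over.pullback ((Spec (CommRingCat.of R)).fromSpecResidueField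
        (genericPoint (Spec (CommRingCat.of R))))).obj A).left := by
  let x := η[A].left s
  have hx : A.hom x = s := by
    rw [← Scheme.Hom.comp_apply, Over.w η[A]]
    rfl
  obtain ⟨V, n, hxV, hn⟩ := Unram17Lib.exists_smoothOfRelativeDimension A.hom x
  have hV : ∀ y ∈ V, FlatMor.fibreDimAt A.hom y = (n : WithBot ℕ∞) := fun y hy => by
    have := Unram17Lib.fibreDimAt_eq_of_openImmersion V.ι (𝟙 _) (h := A.hom) (h' := V.ι ≫ A.hom)
      (by rw [Category.comp_id]) ⟨y, hy⟩
    exact this.trans (Unram17Lib.fibreDimAt_of_smoothOfRelativeDimension (V.ι ≫ A.hom) n ⟨y, hy⟩)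
  obtain ⟨z, hz, hzη⟩ := Flat.generalizingMap A.hom (genericPoint_specializes (A.hom x))
  have h1 := hV x hxV
  have h2 := hV z (hz.mem_open V.isOpen hxV)
  rw [fibreDimAt_eq_topologicalKrullDim, hx] at h1
  rw [fibreDimAt_eq_topologicalKrullDim, hzη] at h2
  exact h1.trans h2.symm

/-- A quasi-finite homomorphism of smooth group schemes over a field of the same dimension is flat. -/
theorem flat_of_lqf_of_dim_eq {k : Type u} [Field k] {X Y : Over (Spec (CommRingCat.of k))} [GrpObj X] [GrpObj Y]
    [Smooth X.hom] [Smooth Y.hom] (f : X ⟶ Y) [LocallyQuasiFinite f.left]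
    (h : topologicalKrullDim X.left = topologicalKrullDim Y.left) : Flat f.left := by
  haveI : LocallyOfFiniteType (f.left ≫ Y.hom) := by rw [Over.w f]; infer_instance
  haveI : LocallyOfFiniteType f.left := locallyOfFiniteType_of_comp f.left Y.hom
  obtain ⟨ζ, -, hζ⟩ := DimLib.exists_maximal_specializes (η[Y].left.base (IsLocalRing.closedPoint k))
  have hY := AlgGrpLib.ptDim_eq_topologicalKrullDim_of_maximal Y (fun z hz => hζ z hz)
  refine FlatMor12.flat_of_cm_of_regular Y.hom f.left
    (VarietyLib.isRegularLocalRing_stalk_of_smooth k Y.left Y.hom)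
    (fun x => by
      have := VarietyLib.isRegularLocalRing_stalk_of_smooth k X.left X.hom x
      exact CAlgH3.isCohenMacaulayLocalRing_of_regular _)
    (DimLib.ptDim Y.hom ζ) (DimLib.ptDim Y.hom ζ) le_rfl ?_ ?_ ?_
  · rw [DimLib.forall_components_iff X.hom (fun t => t = ((DimLib.ptDim Y.hom ζ : ℕ) : WithBot ℕ∞))]
    intro e he
    rw [hY, ← h]
    exact AlgGrpLib.ptDim_eq_topologicalKrullDim_of_maximal X he
  · rw [DimLib.forall_components_iff Y.hom (fun t => t = ((DimLib.ptDim Y.hom ζ : ℕ) : WithBot ℕ∞))]
    intro e he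
    rw [hY]
    exact AlgGrpLib.ptDim_eq_topologicalKrullDim_of_maximal Y he
  · intro y Z hZ
    rw [Nat.sub_self, Nat.cast_zero]
    haveI : DiscreteTopology ↥(f.left.base ⁻¹' {y}) :=
      isDiscrete_iff_discreteTopology.1 ((locallyQuasiFinite_iff_isDiscrete_preimage_singleton (f := f.left)).1 ‹_› y)
    obtain ⟨z, hz⟩ := hZ.1.nonempty
    haveI : Subsingleton Z := by
      refine (Set.subsingleton_coe _).2 fun a ha b hb => by_contra fun hne => ?_
      obtain ⟨c, -, hca, hcb⟩ := hZ.1.isPreirreducible {a} {b} (isOpen_discrete _) (isOpen_discrete _) ⟨a, ha, rfl⟩ ⟨b, hb, rfl⟩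
      exact hne (hca.symm.trans hcb)
    haveI : Nonempty Z := ⟨⟨z, hz⟩⟩
    refine le_antisymm (topologicalKrullDim_zero_of_discreteTopology _) ?_
    haveI : Nonempty (TopologicalSpace.IrreducibleCloseds Z) :=
      ⟨⟨closure {⟨z, hz⟩}, isIrreducible_singleton.closure, isClosed_closure⟩⟩
    exact Order.krullDim_nonneg

variable (R : Type u) [CommRing R] [IsDedekindDomain R] (A B : Over (Spec (CommRingCat.of R))) [GrpObj A] [GrpObj B]
  [Smooth A.hom] [Smooth B.hom]
  [IsProper ((Neron.genericFibre R).obj A).hom] [GeometricallyIntegral ((Neron.genericFibre R).obj A).hom]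
  [IsProper ((Neron.genericFibre R).obj B).hom] [GeometricallyIntegral ((Neron.genericFibre R).obj B).hom]

/-- Flat iff quasi-finite, for homomorphisms extending an isogeny. -/
theorem lqf_iff_flat (φ : A ⟶ B) [IsMonHom φ] (hφ : SGA7.IsIsogenyOver ((Neron.genericFibre R).map φ)) :
    LocallyQuasiFinite φ.left ↔ Flat φ.left := by
  let F := Neron.genericFibre R
  letI : GrpObj (F.obj A) := Functor.grpObjObj
  letI : GrpObj (F.obj B) := Functor.grpObjObj
  haveI : LocallyOfFiniteType (φ.left ≫ B.hom) := by rw [Over.w φ]; infer_instance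
  haveI : LocallyOfFiniteType φ.left := locallyOfFiniteType_of_comp φ.left B.hom
  haveI : IsMonHom (F.map φ) := inferInstance
  haveI : Smooth (F.obj A).hom := inferInstanceAs (Smooth (pullback.snd A.hom (Neron.genPt R)))
  let i := UnipStruct.kerι φ
  have hN : AlgGrp.IsKernel i φ := UnipStruct.isKernel_kerι φ
  have hNK : AlgGrp.IsKernel (F.map i) (F.map φ) := IsoTriv.ExtensionComm.isKernel_bc i φ hN (Neron.genPt R)
  obtain ⟨hfin, hflat, hsurj⟩ := finite_flat_surjective (F.map φ) hφ (F.map i) hNK
  constructor
  · intro h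
    refine AbVarLib.flat_of_fibreMap φ fun s => ?_
    letI : GrpObj (AbVarLib.fib A s) := Functor.grpObjObj
    letI : GrpObj (AbVarLib.fib B s) := Functor.grpObjObj
    haveI : Smooth (AbVarLib.fib A s).hom := inferInstanceAs (Smooth (pullback.snd A.hom _))
    haveI : Smooth (AbVarLib.fib B s).hom := inferInstanceAs (Smooth (pullback.snd B.hom _))
    haveI : LocallyQuasiFinite (AbVarLib.fibreMap φ s).left := AbVarLib.locallyQuasiFinite_fibreMap φ s
    refine flat_of_lqf_of_dim_eq (AbVarLib.fibreMap φ s) ?_
    let S := Spec (CommRingCat.of R)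
    have hgen : ∀ (C : Over S) [GrpObj C] [Smooth C.hom],
        topologicalKrullDim (AbVarLib.fib C s).left = topologicalKrullDim (F.obj C).left := by
      intro C _ _
      rw [show topologicalKrullDim (AbVarLib.fib C s).left = _ from dim_fibre_eq_generic C s]
      let g₀ : S := Neron.genPt R default
      have hg₀ : g₀ = genericPoint S := by
        refine (Specializes.antisymm ?_ (genericPoint_specializes g₀)).eq
        refine (PrimeSpectrum.le_iff_specializes (R := R) g₀ (genericPoint S)).1 ?_
        intro r hr
        have h0 : algebraMap R (FractionRing R) r ∈ (default : Spec (CommRingCat.of (FractionRing R))).asIdeal := hr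
        rw [(Ideal.eq_bot_or_top _).resolve_right (default : Spec (CommRingCat.of (FractionRing R))).isPrime.ne_top, Ideal.mem_bot] at h0
        rw [IsFractionRing.injective R (FractionRing R) (h0.trans (map_zero _).symm)]
        exact zero_mem _
      haveI : IsPreimmersion (Neron.genPt R) := IsPreimmersion.of_isLocalization (R := R) (S := FractionRing R) (nonZeroDivisors R)
      let hemb₁ := (pullback.fst C.hom (S.fromSpecResidueField (genericPoint S))).isEmbedding
      let hemb₂ := (pullback.fst C.hom (Neron.genPt R)).isEmbedding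
      have hr₂ : Set.range (pullback.fst C.hom (Neron.genPt R)) = C.hom ⁻¹' {genericPoint S} := by
        rw [Scheme.Pullback.range_fst, Set.range_unique, ← hg₀]
      have hr₁ : Set.range (pullback.fst C.hom (S.fromSpecResidueField (genericPoint S))) = C.hom ⁻¹' {genericPoint S} := by
        rw [Scheme.Pullback.range_fst, Scheme.range_fromSpecResidueField]
      exact IsHomeomorph.topologicalKrullDim_eq _
        ((hemb₁.toHomeomorph.trans ((Homeomorph.setCongr (hr₁.trans hr₂.symm)))).trans hemb₂.toHomeomorph.symm).isHomeomorph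
    rw [hgen A, hgen B]
    exact AbVarLib.dim_eq_of_isFinite (F.map φ)
  · intro h
    have hsq := hN.map (Over.forget (Spec (CommRingCat.of R)))
    haveI : Flat (UnipStruct.kerObj φ).hom := MorphismProperty.of_isPullback (P := @Flat) hsq h
    haveI : LocallyOfFiniteType (UnipStruct.kerObj φ).hom :=
      MorphismProperty.of_isPullback (P := @LocallyOfFiniteType) hsq ‹LocallyOfFiniteType φ.left›
    haveI := hφ.2 _ _ hNK
    haveI := Groth.Agent.S18485.result R (UnipStruct.kerObj φ)
    exact SGA3UnitSec.locallyQuasiFinite_of_kernel φ hN inferInstance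

end Groth.Agent.NeronIsog27
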